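import Cfsg.Agent.SP.NTh.Three.Main
import Cfsg.Agent.SP.NTh.P.Main
import Cfsg.Agent.SP.NTh.Two.Main
import Cfsg.Agent.SP.NTh.NL.Main
import Cfsg.Agent.SP.NTh.U38.Row
import Cfsg.Agent.SP.NTh.D4.Row
import Cfsg.Agent.SP.NTh.G2.Rows

/-! # S5755: the Thompson group has no pair (helper23) -/

set_option autoImplicit false

namespace Cfsg.Agent.SP

/-- **The Thompson group has no pair.** -/
theorem negTh (hC : CFSG.{0}) : ¬ Pair Cfsg.Spor.Th :=
  NTh.negTh_of NTh.thr NTh.P.boxP NTh.box2 NTh.Three.box3 NTh.boxRed NTh.boxNL NTh.rowU38 NTh.rowD4 NTh.rowU43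
    NTh.rowG23 hC

end Cfsg.Agent.SP
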