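import Cfsg.Agent.SP.Basic

/-! # S5755, negative rows: general lemmas

* `IsPair.conj`, `IsPair.not_le`, `IsPair.false_of_base`: conjugation and base-two criteria;
* `IsPair.exists_max`: one may take `B` maximal normal in `A` (`IsMaxPair`);
* `IsPair.exists_pElem`: for a prime `r ∣ |A : B|` every `A ∩ A^t` has an `r`-element outside
  `B` and `B^t`;
* `IsPair.count`, `IsPair.count_order`, `IsPair.count_out`: class counting;
* `IsMaxPair.restrict`: passing to a normal subgroup containing all `r`-elements;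
* `IsPair.descent`: passing to a subgroup `K` cut out by an element centralising it. -/

set_option autoImplicit false
set_option linter.style.haveILetI false

namespace Cfsg.Agent.SP

open Subgroup

variable {T : Type*} [Group T]

theorem IsPair.le {A B : Subgroup T} (h : IsPair A B) : B ≤ A := h.2.1.le

theorem IsPair.conj_mem {A B : Subgroup T} (h : IsPair A B) {a b : T} (ha : a ∈ A) (hb : b ∈ B) :
    a * b * a⁻¹ ∈ B := (normal_subgroupOf_iff' h.le).1 h.2.2.1 a ha b hb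

/-- Product form of the supplement condition. -/
theorem IsPair.exists_mul {A B : Subgroup T} (h : IsPair A B) (t : T) {a : T} (ha : a ∈ A) :
    ∃ b ∈ B, ∃ d ∈ A, t⁻¹ * d * t ∈ A ∧ a = b * d := by
  obtain ⟨b, hb, d, hd, e⟩ := (sup_eq_iff_mul h.le h.2.2.1 inf_le_left).1 (h.2.2.2 t) a ha
  exact ⟨b, hb, d, hd.1, mem_map_conj.1 hd.2, e⟩

theorem isPair_of_mul {A B : Subgroup T} (hA : A ≠ ⊤) (hlt : B < A)
    (hn : ∀ a ∈ A, ∀ b ∈ B, a * b * a⁻¹ ∈ B)
    (h : ∀ t : T, ∀ a ∈ A, ∃ b ∈ B, ∃ d ∈ A, t⁻¹ * d * t ∈ A ∧ a = b * d) : IsPair A B := by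
  have hn' := (normal_subgroupOf_iff' hlt.le).2 hn
  refine ⟨hA, hlt, hn', fun t => (sup_eq_iff_mul hlt.le hn' inf_le_left).2 fun a ha => ?_⟩
  obtain ⟨b, hb, d, hd, hdt, e⟩ := h t a ha
  exact ⟨b, hb, d, ⟨hd, mem_map_conj.2 hdt⟩, e⟩

theorem IsPair.conj {A B : Subgroup T} (h : IsPair A B) (g : T) :
    IsPair (A.map (MulAut.conj g).toMonoidHom) (B.map (MulAut.conj g).toMonoidHom) :=
  h.map (MulAut.conj g)

/-- No two-point stabiliser lies in `B`. -/
theorem IsPair.exists_not_mem {A B : Subgroup T} (h : IsPair A B) (t : T) :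
    ∃ x ∈ A, t⁻¹ * x * t ∈ A ∧ x ∉ B := by
  obtain ⟨a, ha, haB⟩ := SetLike.exists_of_lt h.2.1
  obtain ⟨b, hb, d, hd, hdt, rfl⟩ := h.exists_mul t ha
  exact ⟨d, hd, hdt, fun hdB => haB (B.mul_mem hb hdB)⟩

/-- Base-two criterion. -/
theorem IsPair.false_of_base {A B H : Subgroup T} (h : IsPair A B) (hAH : A ≤ H) (t : T)
    (ht : ∀ x ∈ H, t⁻¹ * x * t ∈ H → x = 1) : False := by
  obtain ⟨x, hx, hxt, hxB⟩ := h.exists_not_mem t
  exact hxB (ht x (hAH hx) (hAH hxt) ▸ B.one_mem)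

theorem IsPair.ne_bot {A B : Subgroup T} (h : IsPair A B) : A ≠ ⊥ := by
  rintro rfl
  exact absurd h.2.1 not_lt_bot

/-- A pair whose `B` is a maximal normal subgroup of `A`. -/
structure IsMaxPair (A B : Subgroup T) : Prop where
  pair : IsPair A B
  max : ∀ N : Subgroup T, B ≤ N → N ≤ A → (∀ a ∈ A, ∀ n ∈ N, a * n * a⁻¹ ∈ N) → N = B ∨ N = A

theorem IsPair.mono {A B N : Subgroup T} (h : IsPair A B) (hBN : B ≤ N) (hN : N < A)
    (hn : ∀ a ∈ A, ∀ n ∈ N, a * n * a⁻¹ ∈ N) : IsPair A N :=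
  isPair_of_mul h.1 hN hn fun t a ha =>
    let ⟨b, hb, d, hd, hdt, e⟩ := h.exists_mul t ha
    ⟨b, hBN hb, d, hd, hdt, e⟩

theorem IsPair.exists_max [Finite T] {A B : Subgroup T} (h : IsPair A B) :
    ∃ B', B ≤ B' ∧ IsMaxPair A B' := by
  classical
  let S : Set (Subgroup T) := {N | B ≤ N ∧ N < A ∧ ∀ a ∈ A, ∀ n ∈ N, a * n * a⁻¹ ∈ N}
  have hS : S.Nonempty := ⟨B, le_rfl, h.2.1, fun a ha n hn => h.conj_mem ha hn⟩
  obtain ⟨M, hM⟩ := (Set.toFinite S).exists_maximal hS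
  refine ⟨M, hM.prop.1, h.mono hM.prop.1 hM.prop.2.1 hM.prop.2.2, fun N hMN hNA hn => ?_⟩
  rcases hNA.lt_or_eq with hlt | he
  · exact Or.inl (le_antisymm (hM.le_of_ge ⟨hM.prop.1.trans hMN, hlt, hn⟩ hMN) hMN)
  · exact Or.inr he

theorem IsMaxPair.conj {A B : Subgroup T} (h : IsMaxPair A B) (g : T) :
    IsMaxPair (A.map (MulAut.conj g).toMonoidHom) (B.map (MulAut.conj g).toMonoidHom) := by
  refine ⟨h.pair.conj g, fun N hBN hNA hn => ?_⟩
  have := h.max (N.map (MulAut.conj g⁻¹).toMonoidHom) (fun x hx => ?_) (fun x hx => ?_)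
    (fun a ha n hn' => ?_)
  · rcases this with e | e
    · left; ext x; rw [mem_map_conj, ← e, mem_map_conj]; simp [mul_assoc]
    · right; ext x; rw [mem_map_conj, ← e, mem_map_conj]; simp [mul_assoc]
  · rw [mem_map_conj]; apply hBN; rw [mem_map_conj]; simpa [mul_assoc] using hx
  · rw [mem_map_conj] at hx; have := hNA hx; rw [mem_map_conj] at this; simpa [mul_assoc] using this
  · rw [mem_map_conj] at hn' ⊢
    have := hn (g * a * g⁻¹) (by rw [mem_map_conj]; simpa [mul_assoc] using ha) _ hn'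
    simpa [mul_assoc] using this

/-- The quotient `A / B` of a maximal pair is simple. -/
theorem IsMaxPair.isSimpleGroup {A B : Subgroup T} (h : IsMaxPair A B) :
    haveI := h.pair.2.2.1
    IsSimpleGroup (A ⧸ B.subgroupOf A) := by
  haveI := h.pair.2.2.1
  have hne : B.subgroupOf A ≠ ⊤ := fun e =>
    h.pair.2.1.ne (le_antisymm h.pair.le (subgroupOf_eq_top.1 e))
  haveI : Nontrivial (A ⧸ B.subgroupOf A) := by
    obtain ⟨a, ha, haB⟩ := SetLike.exists_of_lt h.pair.2.1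
    refine ⟨⟨QuotientGroup.mk ⟨a, ha⟩, 1, fun e => haB ?_⟩⟩
    exact (QuotientGroup.eq_one_iff (N := B.subgroupOf A) (⟨a, ha⟩ : A)).1 e
  refine ⟨fun H hH => ?_⟩
  let N : Subgroup T := (H.comap (QuotientGroup.mk' (B.subgroupOf A))).map A.subtype
  have hmem : ∀ x : A, (x : T) ∈ N ↔ (QuotientGroup.mk x : A ⧸ B.subgroupOf A) ∈ H := by
    intro x
    constructor
    · rintro ⟨y, hy, e⟩
      have : y = x := Subtype.ext e
      subst this; exact hy
    · intro hx; exact ⟨x, hx, rfl⟩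
  have := h.max N (fun b hb => ?_) (map_subtype_le _) (fun a ha n hn => ?_)
  · rcases this with e | e
    · left
      rw [eq_bot_iff]
      intro q hq
      obtain ⟨x, rfl⟩ := QuotientGroup.mk_surjective q
      have := (hmem x).2 hq
      rw [e] at this
      exact (QuotientGroup.eq_one_iff x).2 this
    · right
      rw [eq_top_iff]
      intro q _
      obtain ⟨x, rfl⟩ := QuotientGroup.mk_surjective q
      exact (hmem x).1 (by rw [e]; exact x.2)
  · have : (QuotientGroup.mk (⟨b, h.pair.le hb⟩ : A) : A ⧸ B.subgroupOf A) = 1 :=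
      (QuotientGroup.eq_one_iff _).2 hb
    exact (hmem ⟨b, h.pair.le hb⟩).2 (this ▸ H.one_mem)
  · have hnA : n ∈ A := map_subtype_le _ hn
    have h1 := (hmem ⟨n, hnA⟩).1 hn
    have h2 := hH.conj_mem _ h1 (QuotientGroup.mk (⟨a, ha⟩ : A))
    exact (hmem ((⟨a, ha⟩ : A) * (⟨n, hnA⟩ : A) * (⟨a, ha⟩ : A)⁻¹)).2 h2

/-- A group is not the union of two proper subgroups. -/
theorem exists_not_mem_two {G : Type*} [Group G] {P K L : Subgroup G} (hK : ¬ P ≤ K)
    (hL : ¬ P ≤ L) : ∃ x ∈ P, x ∉ K ∧ x ∉ L := by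
  obtain ⟨a, ha, haK⟩ := SetLike.not_le_iff_exists.1 hK
  obtain ⟨b, hb, hbL⟩ := SetLike.not_le_iff_exists.1 hL
  by_cases haL : a ∈ L
  · by_cases hbK : b ∈ K
    · refine ⟨a * b, P.mul_mem ha hb, fun h => haK ?_, fun h => hbL ?_⟩
      · simpa using K.mul_mem h (K.inv_mem hbK)
      · simpa using L.mul_mem (L.inv_mem haL) h
    · exact ⟨b, hb, hbK, hbL⟩
  · exact ⟨a, ha, haK, haL⟩

/-- For a prime `r ∣ |A : B|`, every `A ∩ A^t` has an `r`-element outside `B` and `B^t`. -/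
theorem IsPair.exists_pElem [Finite T] {A B : Subgroup T} (h : IsPair A B) {r : ℕ}
    (hr : r.Prime) (hd : r ∣ B.relIndex A) (t : T) :
    ∃ x ∈ A, t⁻¹ * x * t ∈ A ∧ x ∉ B ∧ t⁻¹ * x * t ∉ B ∧ ∃ k, x ^ r ^ k = 1 := by
  haveI := h.2.2.1
  haveI : Fact r.Prime := ⟨hr⟩
  let D : Subgroup T := A ⊓ A.map (MulAut.conj t).toMonoidHom
  let f1 : D →* A ⧸ B.subgroupOf A :=
    (QuotientGroup.mk' _).comp (inclusion (inf_le_left : D ≤ A))
  let c : D →* A :=
    { toFun := fun d => ⟨t⁻¹ * d * t, mem_map_conj.1 d.2.2⟩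
      map_one' := by ext; simp
      map_mul' := fun x y => by ext; simp [mul_assoc] }
  let f2 : D →* A ⧸ B.subgroupOf A := (QuotientGroup.mk' _).comp c
  have s1 : Function.Surjective f1 := by
    intro q
    obtain ⟨a, rfl⟩ := QuotientGroup.mk_surjective q
    obtain ⟨b, hb, d, hd, hdt, e⟩ := h.exists_mul t (A.inv_mem a.2)
    refine ⟨⟨d, hd, mem_map_conj.2 hdt⟩⁻¹, ?_⟩
    rw [map_inv]
    simp only [f1, MonoidHom.comp_apply, QuotientGroup.mk'_apply]
    rw [← QuotientGroup.mk_inv, QuotientGroup.eq, mem_subgroupOf]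
    have : (a : T) = d⁻¹ * b⁻¹ := by rw [← mul_inv_rev, ← e, inv_inv]
    simp only [inv_inv, coe_mul, coe_inclusion, this]
    simpa using hb
  have s2 : Function.Surjective f2 := by
    intro q
    obtain ⟨a, rfl⟩ := QuotientGroup.mk_surjective q
    obtain ⟨b, hb, d, hd, hdt, e⟩ := h.exists_mul t⁻¹ (A.inv_mem a.2)
    rw [inv_inv] at hdt
    refine ⟨⟨t * d * t⁻¹, hdt, mem_map_conj.2 (by simpa [mul_assoc] using hd)⟩⁻¹, ?_⟩
    rw [map_inv]
    simp only [f2, MonoidHom.comp_apply, QuotientGroup.mk'_apply]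
    rw [← QuotientGroup.mk_inv, QuotientGroup.eq, mem_subgroupOf]
    have : (a : T) = d⁻¹ * b⁻¹ := by rw [← mul_inv_rev, ← e, inv_inv]
    simp only [inv_inv, coe_mul, c, MonoidHom.coe_mk, OneHom.coe_mk, this]
    simpa [mul_assoc] using hb
  have hcard : r ∣ Nat.card (A ⧸ B.subgroupOf A) := hd
  obtain ⟨P⟩ : Nonempty (Sylow r D) := inferInstance
  have key : ∀ f : D →* A ⧸ B.subgroupOf A, Function.Surjective f → ¬ (P : Subgroup D) ≤ f.ker := by
    intro f hf hle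
    have := (P.mapSurjective hf).ne_bot_of_dvd_card hcard
    rw [Sylow.coe_mapSurjective] at this
    exact this ((Subgroup.map_eq_bot_iff _).2 hle)
  obtain ⟨x, hxP, h1, h2⟩ := exists_not_mem_two (key f1 s1) (key f2 s2)
  obtain ⟨k, hk⟩ := P.isPGroup' ⟨x, hxP⟩
  refine ⟨x, x.2.1, mem_map_conj.1 x.2.2, fun hb => h1 ?_, fun hb => h2 ?_, k, ?_⟩
  · exact (QuotientGroup.eq_one_iff _).2 hb
  · exact (QuotientGroup.eq_one_iff _).2 hb
  · have := congrArg (fun y : P => ((y : D) : T)) hk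
    simpa using this

/-- An element of order `r` in every `A ∩ A^t`. -/
theorem IsPair.exists_order [Finite T] {A B : Subgroup T} (h : IsPair A B) {r : ℕ}
    (hr : r.Prime) (hd : r ∣ B.relIndex A) (t : T) :
    ∃ x ∈ A, t⁻¹ * x * t ∈ A ∧ orderOf x = r := by
  haveI : Fact r.Prime := ⟨hr⟩
  obtain ⟨x, hx, hxt, hxB, -, k, hk⟩ := h.exists_pElem hr hd t
  have hx1 : x ≠ 1 := fun e => hxB (e ▸ B.one_mem)
  obtain ⟨j, -, hj⟩ := (Nat.dvd_prime_pow hr).1 (orderOf_dvd_of_pow_eq_one hk)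
  rcases j with _ | j
  · exact absurd (orderOf_eq_one_iff.1 (by simpa using hj)) hx1
  refine ⟨x ^ r ^ j, A.pow_mem hx _, ?_, ?_⟩
  · have := A.pow_mem hxt (r ^ j)
    rwa [show t⁻¹ * x * t = t⁻¹ * x * t⁻¹⁻¹ by simp, conj_pow, inv_inv] at this
  · rw [orderOf_pow' _ (pow_pos hr.pos j).ne', hj, Nat.gcd_eq_right (pow_dvd_pow r j.le_succ),
      pow_succ, Nat.mul_div_cancel_left _ (pow_pos hr.pos j)]

/-- The number of `t` conjugating `x` to `y` is at most `|C(x)|`. -/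
theorem card_conj_le [Finite T] (x y : T) :
    Nat.card {t : T // t⁻¹ * x * t = y} ≤ Nat.card (centralizer ({x} : Set T)) := by
  by_cases hne : ∃ s : T, s⁻¹ * x * s = y
  · obtain ⟨s, hs⟩ := hne
    refine Nat.card_le_card_of_injective
      (fun t => (⟨t.1 * s⁻¹, ?_⟩ : centralizer ({x} : Set T))) ?_
    · rw [mem_centralizer_singleton_iff]
      have : x = t.1 * y * t.1⁻¹ := by
        have h1 : t.1 * y * t.1⁻¹ = t.1 * (t.1⁻¹ * x * t.1) * t.1⁻¹ := by rw [t.2]
        rw [h1]; group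
      have h2 : x = s * y * s⁻¹ := by rw [← hs]; group
      calc t.1 * s⁻¹ * x = t.1 * s⁻¹ * (s * y * s⁻¹) := by rw [← h2]
        _ = (t.1 * y * t.1⁻¹) * (t.1 * s⁻¹) := by group
        _ = x * (t.1 * s⁻¹) := by rw [← this]
    · intro a b e
      have : a.1 * s⁻¹ = b.1 * s⁻¹ := congrArg Subtype.val e
      exact Subtype.ext (mul_right_cancel this)
  · haveI : IsEmpty {t : T // t⁻¹ * x * t = y} := ⟨fun t => hne ⟨t.1, t.2⟩⟩
    simp

/-- Class counting.  `X` is a set such that every `t` conjugates at least `m` elements of `X` into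
`X`; `f` is a conjugation invariant, `n i` bounds the part of `X` with invariant `i` and `c i` the
centraliser orders there. -/
theorem count_le [Finite T] {ι : Type*} [Fintype ι] (X : Set T) (f : T → ι)
    (hf : ∀ x ∈ X, ∀ t : T, t⁻¹ * x * t ∈ X → f (t⁻¹ * x * t) = f x) (n c : ι → ℕ)
    (hn : ∀ i, {x ∈ X | f x = i}.ncard ≤ n i)
    (hc : ∀ x ∈ X, Nat.card (centralizer ({x} : Set T)) ≤ c (f x)) (m : ℕ)
    (hm : ∀ t : T, m ≤ {x ∈ X | t⁻¹ * x * t ∈ X}.ncard) :
    m * Nat.card T ≤ ∑ i, n i ^ 2 * c i := by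
  classical
  haveI := Fintype.ofFinite T
  let Y : Finset T := Finset.univ.filter (· ∈ X)
  have e1 : m * Nat.card T ≤ ∑ t : T, (Y.filter fun x => t⁻¹ * x * t ∈ X).card := by
    rw [Nat.card_eq_fintype_card, mul_comm, ← smul_eq_mul, ← Finset.card_univ,
      ← Finset.sum_const]
    refine Finset.sum_le_sum fun t _ => (hm t).trans (le_of_eq ?_)
    rw [← Set.ncard_coe_finset]
    congr 1
    ext x; simp [Y]
  have e2 : ∑ t : T, (Y.filter fun x => t⁻¹ * x * t ∈ X).card =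
      ∑ x ∈ Y, (Finset.univ.filter fun t : T => t⁻¹ * x * t ∈ X).card := by
    simp only [Finset.card_filter]
    exact Finset.sum_comm
  have e3 : ∀ x ∈ Y, (Finset.univ.filter fun t : T => t⁻¹ * x * t ∈ X).card ≤
      n (f x) * c (f x) := by
    intro x hx
    have hxX : x ∈ X := by simpa [Y] using hx
    let Z : Finset T := Y.filter fun y => f y = f x
    have hZ : Z.card ≤ n (f x) := by
      refine le_trans (le_of_eq ?_) (hn (f x))
      rw [← Set.ncard_coe_finset]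
      congr 1
      ext y; simp [Z, Y]
    calc (Finset.univ.filter fun t : T => t⁻¹ * x * t ∈ X).card
        ≤ (Z.biUnion fun y => Finset.univ.filter fun t : T => t⁻¹ * x * t = y).card := by
          refine Finset.card_le_card fun t ht => ?_
          have ht' : t⁻¹ * x * t ∈ X := by simpa using ht
          simp only [Finset.mem_biUnion, Finset.mem_filter, Finset.mem_univ, true_and, Z, Y]
          exact ⟨_, ⟨ht', hf x hxX t ht'⟩, rfl⟩
      _ ≤ ∑ y ∈ Z, (Finset.univ.filter fun t : T => t⁻¹ * x * t = y).card :=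
          Finset.card_biUnion_le
      _ ≤ ∑ _y ∈ Z, c (f x) := by
          refine Finset.sum_le_sum fun y _ => le_trans (le_of_eq ?_)
            ((card_conj_le x y).trans (hc x hxX))
          rw [Nat.card_eq_fintype_card, Fintype.card_subtype]
      _ = Z.card * c (f x) := by simp
      _ ≤ n (f x) * c (f x) := Nat.mul_le_mul_right _ hZ
  have e4 : ∑ x ∈ Y, n (f x) * c (f x) ≤ ∑ i, n i ^ 2 * c i := by
    rw [← Finset.sum_fiberwise (s := Y) (g := f)]
    refine Finset.sum_le_sum fun i _ => ?_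
    have : ∑ x ∈ Y with f x = i, n (f x) * c (f x) = (Y.filter fun x => f x = i).card * (n i * c i) := by
      rw [← smul_eq_mul, ← Finset.sum_const]
      refine Finset.sum_congr rfl fun x hx => by rw [(Finset.mem_filter.1 hx).2]
    rw [this, pow_two, mul_assoc]
    refine Nat.mul_le_mul_right _ (le_trans (le_of_eq ?_) (hn i))
    rw [← Set.ncard_coe_finset]
    congr 1
    ext y; simp [Y]
  exact e1.trans (e2 ▸ (Finset.sum_le_sum e3).trans e4)

theorem conj_pow' (t x : T) (j : ℕ) : t⁻¹ * x ^ j * t = (t⁻¹ * x * t) ^ j := by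
  rw [show t⁻¹ * x * t = t⁻¹ * x * t⁻¹⁻¹ by simp, conj_pow, inv_inv]

theorem orderOf_conj' (t x : T) : orderOf (t⁻¹ * x * t) = orderOf x := by
  have := (MulAut.conj t⁻¹).orderOf_eq x
  simpa using this

theorem card_centralizer_conj (t x : T) :
    Nat.card (centralizer ({t⁻¹ * x * t} : Set T)) = Nat.card (centralizer ({x} : Set T)) := by
  refine Nat.card_congr ⟨fun y => ⟨t * y * t⁻¹, ?_⟩, fun y => ⟨t⁻¹ * y * t, ?_⟩, ?_, ?_⟩
  · have := mem_centralizer_singleton_iff.1 y.2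
    rw [mem_centralizer_singleton_iff]
    calc t * y * t⁻¹ * x = t * (y * (t⁻¹ * x * t)) * t⁻¹ := by group
      _ = x * (t * y * t⁻¹) := by rw [this]; group
  · have := mem_centralizer_singleton_iff.1 y.2
    rw [mem_centralizer_singleton_iff]
    calc t⁻¹ * y * t * (t⁻¹ * x * t) = t⁻¹ * (y * x) * t := by group
      _ = t⁻¹ * x * t * (t⁻¹ * y * t) := by rw [this]; group
  · intro y; ext; simp [mul_assoc]
  · intro y; ext; simp [mul_assoc]

/-- If `r ∣ orderOf x` and the powers `x^j`, `0 < j < r`, lie in `S`, then `|S| ≥ r - 1`. -/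
theorem le_ncard_of_powers [Finite T] {S : Set T} {x : T} {r : ℕ} (hr : r ∣ orderOf x)
    (h : ∀ j, 0 < j → j < r → x ^ j ∈ S) : r - 1 ≤ S.ncard := by
  classical
  have hle : r ≤ orderOf x := Nat.le_of_dvd (orderOf_pos x) hr
  have : ((Finset.Ico 1 r).image fun j => x ^ j).card = r - 1 := by
    rw [Finset.card_image_of_injOn, Nat.card_Ico]
    intro i hi j hj e
    simp only [Finset.coe_Ico, Set.mem_Ico] at hi hj
    exact pow_injOn_Iio_orderOf (by simp; omega) (by simp; omega) e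
  rw [← this, ← Set.ncard_coe_finset]
  refine Set.ncard_le_ncard (fun y hy => ?_) (Set.toFinite _)
  simp only [Finset.coe_image, Finset.coe_Ico, Set.mem_image, Set.mem_Ico] at hy
  obtain ⟨j, ⟨h1, h2⟩, rfl⟩ := hy
  exact h j h1 h2

/-- Counting with the elements of order `r` of `A`. -/
theorem IsPair.count_order [Finite T] {A B : Subgroup T} (h : IsPair A B) {r : ℕ}
    (hr : r.Prime) (hd : r ∣ B.relIndex A) {ι : Type*} [Fintype ι] (f : T → ι)
    (hf : ∀ x t : T, orderOf x = r → f (t⁻¹ * x * t) = f x) (n c : ι → ℕ)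
    (hn : ∀ i, {x | (x ∈ A ∧ orderOf x = r) ∧ f x = i}.ncard ≤ n i)
    (hc : ∀ x ∈ A, orderOf x = r → Nat.card (centralizer ({x} : Set T)) ≤ c (f x)) :
    (r - 1) * Nat.card T ≤ ∑ i, n i ^ 2 * c i := by
  refine count_le {x | x ∈ A ∧ orderOf x = r} f (fun x hx t _ => hf x t hx.2) n c hn
    (fun x hx => hc x hx.1 hx.2) _ fun t => ?_
  obtain ⟨x, hx, hxt, ho⟩ := h.exists_order hr hd t
  refine le_ncard_of_powers (x := x) (by rw [ho]) fun j h0 hj => ?_
  have hoj : orderOf (x ^ j) = r := by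
    rw [← ho]
    refine Nat.Coprime.orderOf_pow ?_
    rw [ho]
    exact (Nat.coprime_of_lt_prime h0.ne' hj hr)
  refine ⟨⟨A.pow_mem hx j, hoj⟩, ?_, ?_⟩
  · rw [conj_pow']; exact A.pow_mem hxt j
  · rw [orderOf_conj', hoj]

/-- The `r`-elements of `A` outside `B`. -/
def outElems (A B : Subgroup T) (r : ℕ) : Set T := {x | x ∈ A ∧ x ∉ B ∧ ∃ k, x ^ r ^ k = 1}

theorem pow_not_mem_of_pElem {B : Subgroup T} {x : T} {r k j : ℕ} (hr : r.Prime) (hxB : x ∉ B)
    (hk : x ^ r ^ k = 1) (h0 : 0 < j) (hj : j < r) : x ^ j ∉ B := by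
  intro hb
  have hcop : Nat.Coprime j (r ^ k) := (Nat.coprime_of_lt_prime h0.ne' hj hr).symm.pow_right k
  have hfin : IsOfFinOrder x := isOfFinOrder_iff_pow_eq_one.2 ⟨r ^ k, pow_pos hr.pos k, hk⟩
  have hco : Nat.Coprime j (orderOf x) := hcop.coprime_dvd_right (orderOf_dvd_of_pow_eq_one hk)
  obtain ⟨m, hm⟩ := exists_pow_eq_self_of_coprime hco
  exact hxB (hm ▸ B.pow_mem hb m)

/-- Counting with the `r`-elements of `A` outside `B`. -/
theorem IsPair.count_out [Finite T] {A B : Subgroup T} (h : IsPair A B) {r : ℕ}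
    (hr : r.Prime) (hd : r ∣ B.relIndex A) {ι : Type*} [Fintype ι] (f : T → ι)
    (hf : ∀ x ∈ outElems A B r, ∀ t : T, f (t⁻¹ * x * t) = f x) (n c : ι → ℕ)
    (hn : ∀ i, {x ∈ outElems A B r | f x = i}.ncard ≤ n i)
    (hc : ∀ x ∈ outElems A B r, Nat.card (centralizer ({x} : Set T)) ≤ c (f x)) :
    (r - 1) * Nat.card T ≤ ∑ i, n i ^ 2 * c i := by
  refine count_le (outElems A B r) f (fun x hx t _ => hf x hx t) n c hn hc _ fun t => ?_
  obtain ⟨x, hx, hxt, hxB, hxtB, k, hk⟩ := h.exists_pElem hr hd t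
  have hx1 : x ≠ 1 := fun e => hxB (e ▸ B.one_mem)
  have hro : r ∣ orderOf x := by
    obtain ⟨j, -, hj⟩ := (Nat.dvd_prime_pow hr).1 (orderOf_dvd_of_pow_eq_one hk)
    rcases j with _ | j
    · exact absurd (orderOf_eq_one_iff.1 (by simpa using hj)) hx1
    · rw [hj]; exact dvd_pow_self r j.succ_ne_zero
  have hk' : (t⁻¹ * x * t) ^ r ^ k = 1 := by rw [← conj_pow', hk]; simp
  refine le_ncard_of_powers (x := x) hro fun j h0 hj => ⟨⟨A.pow_mem hx j,
    pow_not_mem_of_pElem hr hxB hk h0 hj, k, ?_⟩, ?_, ?_, k, ?_⟩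
  · rw [← pow_mul, mul_comm, pow_mul, hk, one_pow]
  · rw [conj_pow']; exact A.pow_mem hxt j
  · rw [conj_pow']; exact pow_not_mem_of_pElem hr hxtB hk' h0 hj
  · rw [conj_pow', ← pow_mul, mul_comm, pow_mul, hk', one_pow]

/-- One-class form of `IsPair.count_order`. -/
theorem IsPair.count_one [Finite T] {A B : Subgroup T} (h : IsPair A B) {r : ℕ}
    (hr : r.Prime) (hd : r ∣ B.relIndex A) (n c : ℕ)
    (hn : {x | x ∈ A ∧ orderOf x = r}.ncard ≤ n)
    (hc : ∀ x ∈ A, orderOf x = r → Nat.card (centralizer ({x} : Set T)) ≤ c) :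
    (r - 1) * Nat.card T ≤ n ^ 2 * c := by
  have := h.count_order hr hd (fun _ => ()) (fun _ _ _ => rfl) (fun _ => n) (fun _ => c)
    (fun _ => by simpa using hn) hc
  simpa using this

/-- Two-class form of `IsPair.count_order`. -/
theorem IsPair.count_two [Finite T] {A B : Subgroup T} (h : IsPair A B) {r : ℕ}
    (hr : r.Prime) (hd : r ∣ B.relIndex A) (P : T → Prop)
    (hP : ∀ x t : T, orderOf x = r → P x → P (t⁻¹ * x * t)) (n₁ c₁ n₂ c₂ : ℕ)
    (hn₁ : {x | x ∈ A ∧ orderOf x = r ∧ P x}.ncard ≤ n₁)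
    (hn₂ : {x | x ∈ A ∧ orderOf x = r ∧ ¬ P x}.ncard ≤ n₂)
    (hc₁ : ∀ x ∈ A, orderOf x = r → P x → Nat.card (centralizer ({x} : Set T)) ≤ c₁)
    (hc₂ : ∀ x ∈ A, orderOf x = r → ¬ P x → Nat.card (centralizer ({x} : Set T)) ≤ c₂) :
    (r - 1) * Nat.card T ≤ n₁ ^ 2 * c₁ + n₂ ^ 2 * c₂ := by
  classical
  have := h.count_order hr hd (fun x => decide (P x)) (fun x t ho => ?_)
    (fun b => if b then n₁ else n₂) (fun b => if b then c₁ else c₂) (fun b => ?_) (fun x hx ho => ?_)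
  · simpa [add_comm] using this
  · refine decide_eq_decide.2 ⟨fun hp => ?_, hP x t ho⟩
    have := hP _ t⁻¹ (by rw [orderOf_conj', ho]) hp
    simpa [mul_assoc] using this
  · cases b
    · simpa [and_assoc] using hn₂
    · simpa [and_assoc] using hn₁
  · by_cases hp : P x
    · simpa [hp] using hc₁ x hx ho hp
    · simpa [hp] using hc₂ x hx ho hp

theorem ncard_le_card_subgroup [Finite T] {S : Set T} {A : Subgroup T} (h : ∀ x ∈ S, x ∈ A) :
    S.ncard ≤ Nat.card A := by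
  rw [← SetLike.coe_sort_coe, Nat.card_coe_set_eq]
  exact Set.ncard_le_ncard h (Set.toFinite _)

/-- A pair has a prime dividing the index. -/
theorem IsPair.relIndex_ne_one {A B : Subgroup T} (h : IsPair A B) : B.relIndex A ≠ 1 :=
  fun e => h.2.1.not_ge (relIndex_eq_one.1 e)

theorem IsPair.exists_prime {A B : Subgroup T} (h : IsPair A B) :
    ∃ r, r.Prime ∧ r ∣ B.relIndex A := Nat.exists_prime_and_dvd h.relIndex_ne_one

/-- Restriction to a normal subgroup `A₁` of `A` holding all `r`-elements. -/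
theorem IsMaxPair.restrict [Finite T] {A B A₁ : Subgroup T} (h : IsMaxPair A B) {r : ℕ}
    (hr : r.Prime) (hd : r ∣ B.relIndex A) (hle : A₁ ≤ A)
    (hn : ∀ a ∈ A, ∀ n ∈ A₁, a * n * a⁻¹ ∈ A₁) (hA₁ : ∀ x ∈ A, ∀ k, x ^ r ^ k = 1 → x ∈ A₁) :
    IsPair A₁ (B ⊓ A₁) ∧ (B ⊓ A₁).relIndex A₁ = B.relIndex A := by
  have hp := h.pair
  -- `B (A₁ ∩ A₁^t) = A`
  have key : ∀ t : T, ∀ a ∈ A, ∃ b ∈ B, ∃ d ∈ A₁, t⁻¹ * d * t ∈ A₁ ∧ a = b * d := by
    intro t
    let D₁ : Subgroup T := A₁ ⊓ A₁.map (MulAut.conj t).toMonoidHom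
    have hD₁ : D₁ ≤ A := inf_le_left.trans hle
    have hmul : ∀ x, x ∈ B ⊔ D₁ ↔ ∃ b ∈ B, ∃ d ∈ D₁, x = b * d := by
      intro x
      constructor
      · intro hx
        have hBA' : B ≤ B ⊔ D₁ := le_sup_left
        have hn' : (B.subgroupOf (B ⊔ D₁)).Normal := (normal_subgroupOf_iff' hBA').2
          fun a ha b hb => hp.conj_mem (sup_le hp.le hD₁ ha) hb
        exact (sup_eq_iff_mul hBA' hn' le_sup_right).1 rfl x hx
      · rintro ⟨b, hb, d, hd, rfl⟩; exact mul_mem_sup hb hd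
    have hmax := h.max (B ⊔ D₁) le_sup_left (sup_le hp.le hD₁) fun a ha n hn' => by
      obtain ⟨b, hb, d, hd, hdt, rfl⟩ := hp.exists_mul t ha
      obtain ⟨b', hb', d', hd', rfl⟩ := (hmul n).1 hn'
      have h1 : d * d' * d⁻¹ ∈ D₁ := ⟨hn d hd d' hd'.1, mem_map_conj.2 (by
        have := hn _ hdt _ (mem_map_conj.1 hd'.2)
        simpa [mul_assoc] using this)⟩
      have : b * d * (b' * d') * (b * d)⁻¹ =
          (b * (d * b' * d⁻¹)) * (d * d' * d⁻¹) * b⁻¹ := by group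
      rw [this]
      exact mul_mem (mul_mem_sup (B.mul_mem hb (hp.conj_mem hd hb')) h1)
        (mem_sup_left (B.inv_mem hb))
    rcases hmax with e | e
    · exfalso
      obtain ⟨x, hx, hxt, hxB, -, k, hk⟩ := hp.exists_pElem hr hd t
      have hk' : (t⁻¹ * x * t) ^ r ^ k = 1 := by rw [← conj_pow', hk]; simp
      exact hxB (e ▸ mem_sup_right ⟨hA₁ x hx k hk, mem_map_conj.2 (hA₁ _ hxt k hk')⟩)
    · intro a ha
      obtain ⟨b, hb, d, hd, e'⟩ := (hmul a).1 (e.symm ▸ ha)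
      exact ⟨b, hb, d, hd.1, mem_map_conj.1 hd.2, e'⟩
  refine ⟨isPair_of_mul (fun e => hp.1 (top_le_iff.1 (e ▸ hle))) ?_ ?_ ?_, ?_⟩
  · refine lt_of_le_of_ne inf_le_right fun e => ?_
    obtain ⟨a, ha, haB⟩ := SetLike.exists_of_lt hp.2.1
    obtain ⟨b, hb, d, hd, -, rfl⟩ := key 1 a ha
    exact haB (B.mul_mem hb (e.symm ▸ hd : d ∈ B ⊓ A₁).1)
  · exact fun a ha b hb => ⟨hp.conj_mem (hle ha) hb.1, hn a (hle ha) b hb.2⟩
  · intro t a ha
    obtain ⟨b, hb, d, hd, hdt, e⟩ := key t a (hle ha)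
    refine ⟨b, ⟨hb, ?_⟩, d, hd, hdt, e⟩
    have : b = a * d⁻¹ := by rw [e]; group
    rw [this]; exact A₁.mul_mem ha (A₁.inv_mem hd)
  · haveI := hp.2.2.1
    rw [inf_relIndex_right]
    let f : A₁ →* A ⧸ B.subgroupOf A := (QuotientGroup.mk' _).comp (inclusion hle)
    have hf : Function.Surjective f := by
      intro q
      obtain ⟨a, rfl⟩ := QuotientGroup.mk_surjective q
      obtain ⟨b, hb, d, hd, -, e⟩ := key 1 _ (A.inv_mem a.2)
      refine ⟨(⟨d, hd⟩ : A₁)⁻¹, ?_⟩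
      simp only [f, MonoidHom.comp_apply, QuotientGroup.mk'_apply]
      rw [QuotientGroup.eq, mem_subgroupOf]
      have : (a : T) = d⁻¹ * b⁻¹ := by rw [← mul_inv_rev, ← e, inv_inv]
      simp only [map_inv, inv_inv, coe_mul, coe_inclusion, this]
      simpa using hb
    have hker : f.ker = B.subgroupOf A₁ := by
      ext x
      simp only [f, MonoidHom.mem_ker, MonoidHom.comp_apply, QuotientGroup.mk'_apply,
        QuotientGroup.eq_one_iff, mem_subgroupOf, coe_inclusion]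
    change (B.subgroupOf A₁).index = Nat.card (A ⧸ B.subgroupOf A)
    rw [← hker, index_ker, MonoidHom.range_eq_top.2 hf, card_top]

/-- Descent.  `A ≤ H`, `K ≤ H`, and `s` centralises `K` with `H ∩ H^s ≤ K`. -/
theorem IsPair.descent {A B H K : Subgroup T} (h : IsPair A B) (hAH : A ≤ H) (hKH : K ≤ H) (s : T)
    (hs : ∀ x ∈ H, s⁻¹ * x * s ∈ H → x ∈ K) (hc : ∀ k ∈ K, Commute s k) :
    K ≤ A ∨ Pair K := by
  by_cases hKA : K ≤ A
  · exact Or.inl hKA
  right
  have key : ∀ k ∈ K, ∀ d ∈ A, (k * s)⁻¹ * d * (k * s) ∈ A → d ∈ K ∧ k⁻¹ * d * k ∈ A := by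
    intro k hk d hd hdt
    have h1 : k⁻¹ * d * k ∈ H := H.mul_mem (H.mul_mem (H.inv_mem (hKH hk)) (hAH hd)) (hKH hk)
    have h2 : k⁻¹ * d * k ∈ K := hs _ h1 (by simpa [mul_assoc] using hAH hdt)
    have h3 : (k * s)⁻¹ * d * (k * s) = k⁻¹ * d * k := by
      have := (hc _ h2).eq
      calc (k * s)⁻¹ * d * (k * s) = s⁻¹ * ((k⁻¹ * d * k) * s) := by group
        _ = k⁻¹ * d * k := by rw [← this]; group
    refine ⟨?_, h3 ▸ hdt⟩
    have := K.mul_mem (K.mul_mem hk h2) (K.inv_mem hk)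
    simpa [mul_assoc] using this
  refine ⟨A.subgroupOf K, B.subgroupOf K, isPair_of_mul (fun e => hKA (subgroupOf_eq_top.1 e))
    ?_ ?_ ?_⟩
  · refine lt_of_le_of_ne (comap_mono h.le) fun e => ?_
    obtain ⟨x, hx, hxt, hxB⟩ := h.exists_not_mem (1 * s)
    have hxK := (key 1 K.one_mem x hx hxt).1
    have : (⟨x, hxK⟩ : K) ∈ A.subgroupOf K := hx
    rw [← e] at this
    exact hxB this
  · intro a ha b hb
    exact h.conj_mem ha hb
  · intro k a ha
    obtain ⟨b, hb, d, hd, hdt, e⟩ := h.exists_mul (k * s) ha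
    obtain ⟨hdK, hdA⟩ := key k k.2 d hd hdt
    have hbK : b ∈ K := by
      have e' : (a : T) = b * d := e
      have : b = a * d⁻¹ := by rw [e']; group
      rw [this]; exact K.mul_mem a.2 (K.inv_mem hdK)
    exact ⟨⟨b, hbK⟩, hb, ⟨d, hdK⟩, hd, hdA, Subtype.ext e⟩

/-- Order bound: `|A| ≤ |B| * |D|` whenever `D` contains some `A ∩ A^t`. -/
theorem IsPair.card_le [Finite T] {A B D : Subgroup T} (h : IsPair A B) (t : T)
    (hD : ∀ x ∈ A, t⁻¹ * x * t ∈ A → x ∈ D) : Nat.card A ≤ Nat.card B * Nat.card D := by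
  rw [← Nat.card_prod]
  choose b hb d hd hdt e using fun a : A => h.exists_mul t a.2
  refine Nat.card_le_card_of_injective
    (fun a => ((⟨b a, hb a⟩ : B), (⟨d a, hD _ (hd a) (hdt a)⟩ : D))) fun x y hxy => ?_
  have h1 : b x = b y := congrArg (fun p => (p.1 : T)) hxy
  have h2 : d x = d y := congrArg (fun p => (p.2 : T)) hxy
  exact Subtype.ext (by rw [e x, e y, h1, h2])

end Cfsg.Agent.SP
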